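import Mathlib.GroupTheory.GroupAction.Primitive
import Mathlib.GroupTheory.SpecificGroups.Alternating
import Mathlib.GroupTheory.Index

/-!
Second maximal subgroups below a maximal subgroup of odd index whose action contains the alternating
group.
-/

set_option autoImplicit false

namespace CfsgLib.SecondMax

open MulAction Equiv

/-- If the action on the cosets of `M` has odd degree and contains the alternating group, then a
maximal subgroup of `M` is maximal in every maximal subgroup containing it. -/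
theorem isCoatom_of_giant {G α : Type*} [Group G] [MulAction G α] [Fintype α] [DecidableEq α]
    (hodd : Odd (Fintype.card α)) [IsPretransitive G α] (a : α)
    (hgiant : alternatingGroup α ≤ (MulAction.toPermHom G α).range)
    (H : Subgroup G) (hHM : H ≤ stabilizer G a) (hmax : IsCoatom (H.subgroupOf (stabilizer G a)))
    (hM : IsCoatom (stabilizer G a)) (K : Subgroup G) (hK : IsCoatom K) (hHK : H ≤ K) :
    IsCoatom (H.subgroupOf K) := by
  classical
  set M := stabilizer G a with hMdef
  by_cases hKM : K = M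
  · rw [hKM]; exact hmax
  -- maximality of `H` in `M`, in the whole group
  have hHmax : ∀ X : Subgroup G, H ≤ X → X ≤ M → X ≠ M → X = H := by
    intro X hHX hXM hne
    have h := hmax.le_iff.1
      (show H.subgroupOf M ≤ X.subgroupOf M from fun g hg => hHX hg)
    rcases h with h | h
    · exact absurd (le_antisymm hXM (Subgroup.subgroupOf_eq_top.1 h)) hne
    · have h' := congrArg (Subgroup.map M.subtype) h
      rwa [Subgroup.subgroupOf_map_subtype, Subgroup.subgroupOf_map_subtype, inf_eq_left.2 hXM,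
        inf_eq_left.2 hHM] at h'
  have hKMH : K ⊓ M = H := hHmax _ (le_inf hHK hHM) inf_le_right fun h => by
    have hMK : M ≤ K := h ▸ inf_le_left
    rcases hM.le_iff.1 hMK with hh | hh
    · exact hK.1 hh
    · exact hKM hh
  have hKa : ∃ k ∈ K, k • a ≠ a := by
    by_contra h
    push Not at h
    rcases hK.le_iff.1 (show K ≤ M from h) with hh | hh
    · exact hM.1 hh
    · exact hKM hh.symm
  refine ⟨fun h => ?_, fun L hL => ?_⟩
  · obtain ⟨k, hk, hka⟩ := hKa
    exact hka (hHM (Subgroup.subgroupOf_eq_top.1 h hk))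
  · set L' := L.map K.subtype with hL'
    have hHL : H ≤ L' := fun g hg => ⟨⟨g, hHK hg⟩, hL.le hg, rfl⟩
    have hLK : L' ≤ K := Subgroup.map_subtype_le L
    suffices h : ∀ k ∈ K, ∃ l ∈ L', l • a = k • a by
      rw [eq_top_iff]
      rintro ⟨k, hk⟩ -
      obtain ⟨l, hl, hla⟩ := h k hk
      have hmem : l⁻¹ * k ∈ H := hKMH ▸ ⟨K.mul_mem (K.inv_mem (hLK hl)) hk, by
        show (l⁻¹ * k) • a = a
        rw [mul_smul, ← hla, inv_smul_smul]⟩
      have : k ∈ L' := by
        have h2 := L'.mul_mem hl (hHL hmem)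
        rwa [mul_inv_cancel_left] at h2
      obtain ⟨l', hl', he⟩ := this
      rwa [show (⟨k, hk⟩ : K) = l' from Subtype.ext he.symm]
    by_contra hneg
    push Not at hneg
    obtain ⟨k₀, hk₀, hk₀'⟩ := hneg
    -- `L'` moves `a`
    obtain ⟨l₁, hl₁, hb⟩ : ∃ l ∈ L', l • a ≠ a := by
      by_contra h
      push Not at h
      obtain ⟨l, hl, hlH⟩ := SetLike.exists_of_lt hL
      exact hlH (show (l : G) ∈ H from hKMH ▸ ⟨l.2, h l ⟨l, hl, rfl⟩⟩)
    set B : Set α := {x | ∃ l ∈ L', l • a = x} with hBdef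
    have haB : a ∈ B := ⟨1, L'.one_mem, one_smul G a⟩
    have hblock : ∀ g ∈ K, ∀ x ∈ B, g • x ∈ B → ∀ y ∈ B, g • y ∈ B := by
      rintro g hg _ ⟨l, hl, rfl⟩ ⟨l', hl', he⟩ _ ⟨m, hm, rfl⟩
      have hmem : l'⁻¹ * (g * l) ∈ H :=
        hKMH ▸ ⟨K.mul_mem (K.inv_mem (hLK hl')) (K.mul_mem hg (hLK hl)), by
          show (l'⁻¹ * (g * l)) • a = a
          rw [mul_smul, mul_smul, ← he, inv_smul_smul]⟩
      have hgL : g ∈ L' := by
        have h2 := L'.mul_mem (L'.mul_mem hl' (hHL hmem)) (L'.inv_mem hl)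
        rwa [mul_inv_cancel_left, mul_inv_cancel_right] at h2
      exact ⟨g * m, L'.mul_mem hgL hm, mul_smul _ _ _⟩
    have hcyc : ∀ {x y z : α}, x ≠ y → x ≠ z → y ≠ z → ∃ g : G, g • x = y ∧ g • y = z ∧
        g • z = x ∧ ∀ w, w ≠ x → w ≠ y → w ≠ z → g • w = w := by
      intro x y z hxy hxz hyz
      have hσ : swap x y * swap y z ∈ alternatingGroup α := by
        rw [Equiv.Perm.mem_alternatingGroup, map_mul, Equiv.Perm.sign_swap hxy,
          Equiv.Perm.sign_swap hyz]
        rfl
      obtain ⟨g, hg⟩ := hgiant hσ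
      have hg' : ∀ w, g • w = (swap x y * swap y z) w := fun w => by rw [← hg]; rfl
      refine ⟨g, ?_, ?_, ?_, fun w h1 h2 h3 => ?_⟩ <;> rw [hg', Equiv.Perm.mul_apply]
      · rw [swap_apply_of_ne_of_ne hxy hxz, swap_apply_left]
      · rw [swap_apply_left, swap_apply_of_ne_of_ne hxz.symm hyz.symm]
      · rw [swap_apply_right, swap_apply_right]
      · rw [swap_apply_of_ne_of_ne h2 h3, swap_apply_of_ne_of_ne h1 h2]
    set Δ : Set α := {x | ∃ k ∈ K, k • a = x} with hΔdef
    have hc : (k₀ • a) ∉ B := fun ⟨l, hl, he⟩ => hk₀' l hl he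
    have hbB : l₁ • a ∈ B := ⟨l₁, hl₁, rfl⟩
    have hBΔ : B ⊆ Δ := fun x ⟨l, hl, hlx⟩ => ⟨l, hLK hl, hlx⟩
    by_cases hΔ : Δ = Set.univ
    · -- transitive case
      have hall : ∀ x : α, ∃ k ∈ K, k • a = x := fun x => (hΔ ▸ Set.mem_univ x : x ∈ Δ)
      let R : α → α → Prop := fun x y => ∃ k ∈ K, k⁻¹ • x ∈ B ∧ k⁻¹ • y ∈ B
      have hRtrans : ∀ {x y z}, R x y → R y z → R x z := by
        rintro x y z ⟨k, hk, hx, hy⟩ ⟨k', hk', hy', hz⟩
        refine ⟨k', hk', ?_, hz⟩
        have h := hblock (k'⁻¹ * k) (K.mul_mem (K.inv_mem hk') hk) _ hy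
          (by rwa [mul_smul, smul_inv_smul]) _ hx
        rwa [mul_smul, smul_inv_smul] at h
      have hRsmul : ∀ {x y}, R x y → ∀ g ∈ K, R (g • x) (g • y) := by
        rintro x y ⟨k, hk, hx, hy⟩ g hg
        refine ⟨g * k, K.mul_mem hg hk, ?_, ?_⟩ <;>
          rw [mul_inv_rev, mul_smul, inv_smul_smul] <;> assumption
      have hRB : ∀ {x y}, R x y → x ∈ B → y ∈ B := by
        rintro x y ⟨k, hk, hx, hy⟩ hxB
        have h := hblock k hk _ hx (by rwa [smul_inv_smul]) _ hy
        rwa [smul_inv_smul] at h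
      have hRsymm : ∀ {x y}, R x y → R y x := fun ⟨k, hk, hx, hy⟩ => ⟨k, hk, hy, hx⟩
      set x := k₀ • a with hxdef
      set y := k₀ • l₁ • a with hydef
      have hxy : R x y := ⟨k₀, hk₀, by rw [inv_smul_smul]; exact haB, by rw [inv_smul_smul]; exact hbB⟩
      have hyB : y ∉ B := fun h => hc (hRB (hRsymm hxy) h)
      have hxney : x ≠ y := fun h => hb ((smul_left_cancel_iff k₀).1 h).symm
      -- the degree is odd, so there is a third block
      obtain ⟨z, hzB, hzx⟩ : ∃ z, z ∉ B ∧ ¬ R x z := by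
        by_contra h
        push Not at h
        set Bf : Finset α := Finset.univ.filter (· ∈ B) with hBf
        have hiff : ∀ w, w ∈ Bf.image (k₀ • ·) ↔ w ∉ B := by
          intro w
          simp only [Bf, Finset.mem_image, Finset.mem_filter, Finset.mem_univ, true_and]
          constructor
          · rintro ⟨u, hu, rfl⟩ hw
            exact hc (hRB (x := k₀ • u) (y := x) ⟨k₀, hk₀, by rwa [inv_smul_smul],
              by rw [inv_smul_smul]; exact haB⟩ hw)
          · intro hw
            obtain ⟨k, hk, hkx, hkw⟩ := h w hw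
            refine ⟨k₀⁻¹ • w, ?_, smul_inv_smul _ _⟩
            have h' := hblock (k₀⁻¹ * k) (K.mul_mem (K.inv_mem hk₀) hk) _ hkx
              (by rw [mul_smul, smul_inv_smul, inv_smul_smul]; exact haB) _ hkw
            rwa [mul_smul, smul_inv_smul] at h'
        have hcard : Fintype.card α = Bf.card + (Bf.image (k₀ • ·)).card := by
          rw [← Finset.card_union_of_disjoint, ← Finset.card_univ]
          · congr 1
            ext w
            simp only [Finset.mem_univ, Finset.mem_union, true_iff, hiff]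
            simp only [Bf, Finset.mem_filter, Finset.mem_univ, true_and]
            exact em _
          · rw [Finset.disjoint_left]
            intro w hw hw'
            exact (hiff w).1 hw' (by simpa [Bf] using hw)
        rw [Finset.card_image_of_injective _ (MulAction.injective k₀)] at hcard
        exact Nat.not_even_iff_odd.2 hodd ⟨Bf.card, hcard⟩
      have hyz : y ≠ z := fun h => hzx (h ▸ hxy)
      have hxz : x ≠ z := fun h => hzx (h ▸ ⟨k₀, hk₀, by rw [inv_smul_smul]; exact haB, by rw [inv_smul_smul]; exact haB⟩)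
      -- the stabilizer of `B` in `M` is `H`
      let X : Subgroup G :=
        { carrier := {g | g • a = a ∧ ∀ w, g • w ∈ B ↔ w ∈ B}
          one_mem' := ⟨one_smul G a, fun w => by rw [one_smul]⟩
          mul_mem' := fun {g g'} hg hg' => ⟨by rw [mul_smul, hg'.1, hg.1], fun w => by
            rw [mul_smul, hg.2, hg'.2]⟩
          inv_mem' := fun {g} hg => ⟨inv_smul_eq_iff.2 hg.1.symm, fun w => by
            rw [← hg.2, smul_inv_smul]⟩ }
      have hXH : X = H := by
        refine hHmax X (fun h hh => ⟨hHM hh, fun w => ?_⟩) (fun g hg => hg.1) fun hXM => ?_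
        · constructor
          · rintro ⟨l, hl, he⟩
            exact ⟨h⁻¹ * l, L'.mul_mem (L'.inv_mem (hHL hh)) hl, by
              rw [mul_smul, he, inv_smul_smul]⟩
          · rintro ⟨l, hl, rfl⟩
            exact ⟨h * l, L'.mul_mem (hHL hh) hl, mul_smul _ _ _⟩
        · have hbx : l₁ • a ≠ x := fun h => hc (h ▸ hbB)
          have hby : l₁ • a ≠ y := fun h => hyB (h ▸ hbB)
          obtain ⟨g, g1, -, -, gfix⟩ := hcyc hbx hby hxney
          have hgX : g ∈ X := hXM ▸ mem_stabilizer_iff.2 (gfix a hb.symm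
            (fun h => hc (h ▸ haB)) (fun h => hyB (h ▸ haB)))
          exact hc (g1 ▸ (hgX.2 _).2 hbB)
      obtain ⟨g, g1, g2, g3, gfix⟩ := hcyc hxney hxz hyz
      have hgX : g ∈ X := by
        refine ⟨gfix a (fun h => hc (h ▸ haB)) (fun h => hyB (h ▸ haB)) (fun h => hzB (h ▸ haB)), fun w => ?_⟩
        by_cases h1 : w = x
        · subst h1; rw [g1]; exact iff_of_false hyB hc
        by_cases h2 : w = y
        · subst h2; rw [g2]; exact iff_of_false hzB hyB
        by_cases h3 : w = z
        · subst h3; rw [g3]; exact iff_of_false hc hzB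
        rw [gfix w h1 h2 h3]
      have hgK : g ∈ K := hHK (hXH ▸ hgX)
      exact hzx (hRtrans hxy (g2 ▸ g1 ▸ hRsmul hxy g hgK))
    · -- intransitive case: `K` is the stabilizer of its orbit
      let S : Subgroup G :=
        { carrier := {g | ∀ w, g • w ∈ Δ ↔ w ∈ Δ}
          one_mem' := fun w => by rw [one_smul]
          mul_mem' := fun {g g'} hg hg' w => by rw [mul_smul, hg, hg']
          inv_mem' := fun {g} hg w => by rw [← hg, smul_inv_smul] }
      have hKS : K ≤ S := by
        intro k hk w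
        constructor
        · rintro ⟨j, hj, he⟩
          exact ⟨k⁻¹ * j, K.mul_mem (K.inv_mem hk) hj, by rw [mul_smul, he, inv_smul_smul]⟩
        · rintro ⟨j, hj, rfl⟩
          exact ⟨k * j, K.mul_mem hk hj, mul_smul _ _ _⟩
      have hSK : S = K := by
        rcases hK.le_iff.1 hKS with hh | hh
        · exfalso
          apply hΔ
          rw [Set.eq_univ_iff_forall]
          intro w
          obtain ⟨g, rfl⟩ := MulAction.exists_smul_eq G a w
          exact ((show g ∈ S from hh ▸ Subgroup.mem_top g) a).2 ⟨1, K.one_mem, one_smul G a⟩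
        · exact hh
      set c := k₀ • a with hcdef
      have hac : a ≠ c := fun h => hc (h ▸ haB)
      have hbc : l₁ • a ≠ c := fun h => hc (h ▸ hbB)
      obtain ⟨g, g1, g2, g3, gfix⟩ := hcyc hb.symm hac hbc
      have haΔ : a ∈ Δ := hBΔ haB
      have hbΔ : l₁ • a ∈ Δ := hBΔ hbB
      have hcΔ : c ∈ Δ := ⟨k₀, hk₀, rfl⟩
      have hgK : g ∈ K := hSK ▸ (show g ∈ S from fun w => by
        by_cases h1 : w = a
        · subst h1; rw [g1]; exact iff_of_true hbΔ haΔ
        by_cases h2 : w = l₁ • a
        · subst h2; rw [g2]; exact iff_of_true hcΔ hbΔ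
        by_cases h3 : w = c
        · subst h3; rw [g3]; exact iff_of_true haΔ hcΔ
        rw [gfix w h1 h2 h3])
      exact hc (g2 ▸ hblock g hgK a haB (g1 ▸ hbB) _ hbB)

end CfsgLib.SecondMax
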